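import Groth.Agent.FrobSplitLib.Power
import Groth.Agent.OmegaUnivLib.Univ
import Groth.Agent.SiteCmpLib.TopCmp
import Groth.Agent.CurvQuotLib.Field
import Groth.Agent.S2148

/-!
# Injectivity of the `p`-th power map on first cohomology

For a normal integral scheme over an algebraically closed field of characteristic `p`, a section of the
cokernel of `L ⟶ L^⊗p` gives, through differentials of local coefficients, a section of `Ω ⊗ L^⊗p`,
which vanishes only if the section of the cokernel does.
-/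

set_option autoImplicit false
set_option backward.isDefEq.respectTransparency false
set_option linter.style.haveILetI false
set_option linter.unusedSectionVars false
set_option maxHeartbeats 800000

universe u

open CategoryTheory CategoryTheory.Limits AlgebraicGeometry TopologicalSpace Opposite
open Groth.Agent.PullbackMod Groth.Agent.DCohLib Groth.Agent.ExtSeq Groth.Agent.KVb Groth.Agent.FrobSplitLib

noncomputable section

namespace Groth.Agent.KodVLib

section Alg

variable {k : Type u} [Field k] (p : ℕ) [hp : Fact p.Prime] [CharP k p]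

/-- The differential of a `p`-th power vanishes. -/
theorem d_pow_eq_zero {R : Type u} [CommRing R] {M : Type u} [AddCommGroup M] [Module R M]
    (D : R → M) (hD : ∀ a b, D (a * b) = a • D b + b • D a) (h1 : D 1 = 0) (hR : (p : R) = 0) (a : R) :
    D (a ^ p) = 0 := by
  have h : ∀ n : ℕ, D (a ^ n) = ((n : R) * a ^ (n - 1)) • D a := by
    intro n
    induction n with
    | zero => simp [h1]
    | succ n ih =>
      rw [pow_succ, hD, ih, smul_smul, ← add_smul]
      congr 1
      rcases n with _ | m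
      · push_cast; ring
      · push_cast; ring
  rw [h, hR, zero_mul, zero_smul]

theorem add_pow_of_natCast_eq_zero {R : Type u} [CommRing R] (hR : (p : R) = 0) (a b : R) :
    (a + b) ^ p = a ^ p + b ^ p := by
  rcases subsingleton_or_nontrivial R with h | h
  · exact Subsingleton.elim _ _
  · haveI : CharP R p := by
      obtain ⟨q, hq⟩ := CharP.exists R
      have hdvd := (CharP.cast_eq_zero_iff R q p).1 hR
      rcases (Nat.dvd_prime hp.out).1 hdvd with h1 | h1
      · exact absurd h1 (CharP.char_ne_one R q)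
      · exact h1 ▸ hq
    exact add_pow_char a b p

end Alg

variable (k : Type u) [Field k] [IsAlgClosed k] (p : ℕ) [hp : Fact p.Prime] [CharP k p]
  {X : Scheme.{u}} (f : X ⟶ Spec (CommRingCat.of k)) [QuasiSeparated f]

include f in
theorem natCast_eq_zero (U : X.Opens) : (p : Γ(X, U)) = 0 := by
  have h := map_natCast ((X.presheaf.map (homOfLE (le_top : U ≤ ⊤)).op).hom.comp
    (f.appTop.hom.comp (Scheme.ΓSpecIso (CommRingCat.of k)).inv.hom)) p
  have h0 : ((p : (CommRingCat.of k)) = 0) := CharP.cast_eq_zero k p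
  rw [h0, map_zero] at h
  exact h.symm

theorem dSect_mul (U : X.Opens) (a b : Γ(X, U)) :
    OmegaSh.dSect f U (a * b) = a • OmegaSh.dSect f U b + b • OmegaSh.dSect f U a :=
  OmegaUnivLib.app_mul (OmegaSh.dOmega f) U a b

theorem dSect_one (U : X.Opens) : OmegaSh.dSect f U (1 : Γ(X, U)) = 0 :=
  OmegaUnivLib.app_one (OmegaSh.dOmega f) U

include p hp in
theorem dSect_pow (U : X.Opens) (a : Γ(X, U)) : OmegaSh.dSect f U (a ^ p) = 0 :=
  d_pow_eq_zero p _ (dSect_mul k f U) (dSect_one k f U) (natCast_eq_zero k p f U) a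

variable [IsIntegral X] (hX : Pi1.IsNormalScheme X)

include p hp hX in
/-- A function with vanishing differential on a normal variety is a `p`-th power. -/
theorem exists_pow_eq {U : X.Opens} (hU : IsAffineOpen U) [Nonempty ↥U] (b : Γ(X, U))
    (hb : OmegaSh.dSect f U b = 0) : ∃ a, a ^ p = b := by
  haveI : IsDomain Γ(X, U) := @IsIntegral.component_integral X _ U ‹_›
  haveI := CurvQuotLib.isIntegrallyClosed_sections hX hU
  let R₀ : CommRingCat.{u} := Γ(Spec (CommRingCat.of k), ⊤)
  have hle : U ≤ f ⁻¹ᵁ ⊤ := le_top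
  letI := (f.appLE ⊤ U hle).hom.toAlgebra
  let T : Ω[Γ(X, U)⁄R₀] →ₗ[Γ(X, U)] Γ(Omega.sheaf f, U) := (OmAff.toSect f ⊤ U hle).hom
  have hT : ∀ c, T (KaehlerDifferential.D R₀ Γ(X, U) c) = OmegaSh.dSect f U c :=
    fun c => OmAff.toSect_d f ⊤ U hle c
  have hbij := OmegaAffLib.bijective_of_D f (isAffineOpen_top _) hU hle T hT
  have hb' : KaehlerDifferential.D R₀ Γ(X, U) b = 0 := hbij.1 ((hT b).trans (hb.trans (map_zero T).symm))
  let K := FractionRing Γ(X, U)
  let e : k ≃+* R₀ := (Scheme.ΓSpecIso (CommRingCat.of k)).symm.commRingCatIsoToRingEquiv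
  letI : Field R₀ := (e.symm.toMulEquiv.isField (Field.toIsField k)).toField
  haveI : CharP R₀ p := charP_of_injective_ringHom (f := e.toRingHom) e.injective p
  haveI : PerfectRing R₀ p := PerfectRing.ofSurjective R₀ p fun z => by
    obtain ⟨c, hc⟩ := IsAlgClosed.exists_pow_nat_eq (e.symm z) hp.out.pos
    exact ⟨e c, by rw [frobenius_def, ← map_pow, hc, RingEquiv.apply_symm_apply]⟩
  have h0 : KaehlerDifferential.D R₀ K (algebraMap Γ(X, U) K b) = 0 := by
    rw [← KaehlerDifferential.map_D R₀ R₀ Γ(X, U) K b, hb', map_zero]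
  obtain ⟨y, hy⟩ := (Groth.Agent.S2148.result (k := R₀) p (algebraMap Γ(X, U) K b)).1 h0
  obtain ⟨a, rfl⟩ := (IsIntegrallyClosed.isIntegral_iff (R := Γ(X, U)) (K := K)).1
    (IsIntegral.of_pow hp.out.pos (hy ▸ isIntegral_algebraMap) : IsIntegral Γ(X, U) y)
  exact ⟨a, IsFractionRing.injective Γ(X, U) K ((map_pow _ _ _).trans hy)⟩

variable {L : X.Modules} (hL : PicF.IsInvertible L)

include p hp f in
theorem hadd (V : X.Opens) (a b : Γ(X, V)) : (a + b) ^ p = a ^ p + b ^ p :=
  add_pow_of_natCast_eq_zero p (natCast_eq_zero k p f V) a b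

/-- The power map. -/
abbrev powMap : Coh.toAb L ⟶ Coh.toAb (CohB1.tensorPow L p) := Φ p hL (hadd k p f)

/-- The cokernel sequence of the power map. -/
def seq : ShortComplex (TopCat.Sheaf Ab.{u} X.carrier) :=
  ShortComplex.mk (powMap k p f hL) (cokernel.π (powMap k p f hL)) (cokernel.condition _)

theorem mono_powMap : Mono (powMap k p f hL) := by
  haveI : ∀ U, Mono ((powMap k p f hL).hom.app U) := fun U => by
    rw [AddCommGrpCat.mono_iff_injective]
    refine (injective_iff_map_eq_zero ((powMap k p f hL).hom.app U).hom).2 fun σ (hσ : powS L σ p = 0) => ?_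
    refine eq_of_local (M := L) (U := U.unop) σ 0 fun x hx => ?_
    obtain ⟨V, hV, e, hxV, he⟩ := exists_isGen_le hL U.unop hx
    obtain ⟨a, ha⟩ := (bijective_smul he).2 (rs L hV σ)
    dsimp only at ha
    refine ⟨V, hV, hxV, ?_⟩
    have h2 : a ^ p = 0 := (bijective_smul (isGen_powS L he p)).1 (by
      show a ^ p • powS L e p = (0 : Γ(X, V)) • powS L e p
      rw [zero_smul, ← powS_smul, ha, ← rs_powS, hσ]
      exact map_zero ((CohB1.tensorPow L p).presheaf.map (homOfLE hV).op).hom)
    rw [← ha, eq_zero_of_pow_eq_zero h2, zero_smul]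
    exact (map_zero (L.presheaf.map (homOfLE hV).op).hom).symm
  haveI : Mono (powMap k p f hL).hom := NatTrans.mono_of_mono_app _
  exact Sheaf.Hom.mono_of_presheaf_mono _ _ _

theorem seq_shortExact : (seq k p f hL).ShortExact :=
  haveI : Mono (seq k p f hL).f := mono_powMap k p f hL
  haveI : Epi (seq k p f hL).g := inferInstanceAs (Epi (cokernel.π _))
  { exact := ShortComplex.exact_cokernel _ }

/-- The differential of a coefficient. -/
abbrev nabla {V : X.Opens} (e : Γ(L, V)) (b : Γ(X, V)) :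
    Γ(ten (Omega.sheaf f) (CohB1.tensorPow L p), V) :=
  gLin (Omega.sheaf f) (CohB1.tensorPow L p) (powS L e p) (OmegaSh.dSect f V b)

theorem rs_nabla {V W : X.Opens} (h : W ≤ V) (e : Γ(L, V)) (b : Γ(X, V)) :
    rs (ten (Omega.sheaf f) (CohB1.tensorPow L p)) h (nabla k p f e b) =
      nabla k p f (rs L h e) (X.presheaf.map (homOfLE h).op b) := by
  show rs _ h (pairS _ _ _ _) = pairS _ _ _ _
  rw [rs, res_pairS]
  exact congrArg₂ (pairS (Omega.sheaf f) (CohB1.tensorPow L p) (U := W))
    (OmegaSh.dSect_map f h b).symm (rs_powS L h e p)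

theorem nabla_smul {V : X.Opens} (e : Γ(L, V)) (a : Γ(X, V)) (b : Γ(X, V)) :
    nabla k p f (a • e) b = a ^ p • nabla k p f e b := by
  show pairS _ _ _ _ = a ^ p • pairS _ _ _ _
  rw [powS_smul, pairS_smul_right]

include hX in
/-- The global sections of the cokernel vanish. -/
theorem section_eq_zero (h0 : Subsingleton Γ(ten (Omega.sheaf f) (CohB1.tensorPow L p), ⊤))
    (s : (seq k p f hL).X₃.obj.obj (op ⊤)) : s = 0 := by
  classical
  let S := seq k p f hL
  let P := CohB1.tensorPow L p
  let N := ten (Omega.sheaf f) P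
  haveI hloc : Sheaf.IsLocallySurjective S.g :=
    (Sheaf.isLocallySurjective_iff_epi' AddCommGrpCat.{u} S.g).mpr (seq_shortExact k p f hL).epi_g
  have hcov : ∀ x : X, ∃ (V : X.Opens) (e : Γ(L, V)) (b : Γ(X, V)), x ∈ V ∧ IsAffineOpen V ∧ IsGen L e ∧
      S.g.hom.app (op V) (b • powS L e p : Γ(P, V)) = S.X₃.obj.map (homOfLE (le_top : V ≤ ⊤)).op s := by
    intro x
    obtain ⟨W, i, ⟨t, ht⟩, hxW⟩ := Presheaf.imageSieve_mem
      (Opens.grothendieckTopology X.carrier) S.g.hom s x trivial
    obtain ⟨W', hW', e, hxW', he⟩ := exists_isGen_le hL W hxW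
    obtain ⟨_, ⟨V, hV, rfl⟩, hxV, hVW⟩ := X.isBasis_affineOpens.exists_subset_of_mem_open hxW' W'.2
    have hVW' : V ≤ W' := hVW
    obtain ⟨b, hb⟩ := (bijective_smul (isGen_powS L (isGen_rs hVW' he) p)).2 (rs P (hVW'.trans hW') (show Γ(P, W) from t))
    refine ⟨V, rs L hVW' e, b, hxV, hV, isGen_rs hVW' he, ?_⟩
    dsimp only at hb
    rw [hb]
    have h1 := ConcreteCategory.congr_hom (S.g.hom.naturality (homOfLE (hVW'.trans hW')).op) t
    refine h1.trans ((congrArg _ ht).trans ?_)
    show S.X₃.obj.map _ (S.X₃.obj.map _ s) = _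
    rw [← ConcreteCategory.comp_apply, ← Functor.map_comp]
    rfl
  choose V e b hxV hV he hb using hcov
  -- the local differentials agree
  have hcompat : ∀ i j : X, rs N (inf_le_left : V i ⊓ V j ≤ V i) (nabla k p f (e i) (b i)) =
      rs N (inf_le_right : V i ⊓ V j ≤ V j) (nabla k p f (e j) (b j)) := by
    intro i j
    let Z : X.Opens := V i ⊓ V j
    have hi : Z ≤ V i := inf_le_left
    have hj : Z ≤ V j := inf_le_right
    obtain ⟨a, ha⟩ := (bijective_smul (isGen_rs hi (he i))).2 (rs L hj (e j))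
    dsimp only at ha
    have hS : ∀ (l : X) (hl : Z ≤ V l), S.g.hom.app (op Z)
        (X.presheaf.map (homOfLE hl).op (b l) • powS L (rs L hl (e l)) p : Γ(P, Z)) =
          S.X₃.obj.map (homOfLE (le_top : Z ≤ ⊤)).op s := fun l hl => by
      rw [← rs_powS, ← rs_smul]
      have h1 := ConcreteCategory.congr_hom (S.g.hom.naturality (homOfLE hl).op) (b l • powS L (e l) p : Γ(P, V l))
      refine h1.trans ((congrArg _ (hb l)).trans ?_)
      show S.X₃.obj.map _ (S.X₃.obj.map _ s) = _
      rw [← ConcreteCategory.comp_apply, ← Functor.map_comp]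
      rfl
    haveI := mono_powMap k p f hL
    haveI : Mono S.f := mono_powMap k p f hL
    obtain ⟨σ, hσ⟩ := SiteCmpLib.sections_exact (seq_shortExact k p f hL).exact Z
      ((X.presheaf.map (homOfLE hi).op (b i) • powS L (rs L hi (e i)) p -
        X.presheaf.map (homOfLE hj).op (b j) • powS L (rs L hj (e j)) p : Γ(P, Z)))
      ((map_sub (S.g.hom.app (op Z)).hom _ _).trans ((congrArg₂ (· - ·) (hS i hi) (hS j hj)).trans (sub_self _)))
    obtain ⟨c, hc⟩ := (bijective_smul (isGen_rs hi (he i))).2 (show Γ(L, Z) from σ)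
    dsimp only at hc
    rw [rs_nabla, rs_nabla, ← ha, nabla_smul]
    have hσ' : powS L (show Γ(L, Z) from σ) p = X.presheaf.map (homOfLE hi).op (b i) • powS L (rs L hi (e i)) p -
        X.presheaf.map (homOfLE hj).op (b j) • powS L (rs L hj (e j)) p := hσ
    rw [← hc, ← ha, powS_smul, powS_smul, smul_smul, ← sub_smul] at hσ'
    have hcoef : X.presheaf.map (homOfLE hi).op (b i) = c ^ p + X.presheaf.map (homOfLE hj).op (b j) * a ^ p :=
      sub_eq_iff_eq_add.1 ((bijective_smul (isGen_powS L (isGen_rs hi (he i)) p)).1 hσ').symm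
    show gLin _ _ _ (OmegaSh.dSect f Z _) = _ • gLin _ _ _ (OmegaSh.dSect f Z _)
    rw [hcoef, OmegaSh.dSect_add, dSect_pow k p f, zero_add, dSect_mul, dSect_pow k p f, smul_zero, zero_add,
      map_smul]
  obtain ⟨w, hw, -⟩ := TopCat.Sheaf.existsUnique_gluing' (⟨N.presheaf, N.isSheaf⟩ : TopCat.Sheaf Ab X)
    V ⊤ (fun i => homOfLE le_top) (fun x _ => Opens.mem_iSup.2 ⟨x, hxV x⟩) (fun i => nabla k p f (e i) (b i))
    (fun i j => hcompat i j)
  -- and vanish
  have hzero : ∀ i, S.X₃.obj.map (homOfLE (le_top : V i ≤ ⊤)).op s = 0 := fun i => by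
    haveI : Nonempty ↥(V i) := ⟨⟨i, hxV i⟩⟩
    have h1 : nabla k p f (e i) (b i) = 0 := by
      rw [← hw i, Subsingleton.elim (α := Γ(N, ⊤)) w 0]
      exact map_zero (N.presheaf.map (homOfLE le_top).op).hom
    have h2 : OmegaSh.dSect f (V i) (b i) = 0 :=
      (gLin_bijective (isGen_powS L (he i) p)).1 (h1.trans (map_zero _).symm)
    obtain ⟨a, ha⟩ := exists_pow_eq k p f hX (hV i) (b i) h2
    rw [← hb i, ← ha, ← powS_smul]
    exact ConcreteCategory.congr_hom (congr($(S.zero).hom.app (op (V i)))) (a • e i : Γ(L, V i))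
  refine TopCat.Sheaf.eq_of_locally_eq' S.X₃ V ⊤ (fun i => homOfLE le_top)
    (fun x _ => Opens.mem_iSup.2 ⟨x, hxV x⟩) s 0 fun i => ?_
  exact (hzero i).trans (map_zero _).symm

include hX hL in
/-- First cohomology of `L` vanishes when that of `L^⊗p` does and `Ω ⊗ L^⊗p` has no section. -/
theorem subsingleton_H1 (h0 : Subsingleton (Coh.HH X (ten (Omega.sheaf f) (CohB1.tensorPow L p)) 0))
    (h1 : Subsingleton (Coh.HH X (CohB1.tensorPow L p) 1)) : Subsingleton (Coh.HH X L 1) := by
  haveI : Subsingleton Γ(ten (Omega.sheaf f) (CohB1.tensorPow L p), ⊤) :=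
    (Sheaf.H.equiv₀ (Coh.toAb (ten (Omega.sheaf f) (CohB1.tensorPow L p))) isTerminalTop).symm.toEquiv.injective.subsingleton
  refine subsingleton_of_forall_eq 0 fun x => ?_
  obtain ⟨y, hy⟩ := Abelian.Ext.covariant_sequence_exact₁ _ (seq_shortExact k p f hL) x
    (Subsingleton.elim (α := Coh.HH X (CohB1.tensorPow L p) 1) _ _) (zero_add 1)
  have hy0 : y = 0 := (Sheaf.H.equiv₀ (seq k p f hL).X₃ isTerminalTop).injective
    ((section_eq_zero k p f hX hL inferInstance _).trans (map_zero _).symm)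
  rw [← hy, hy0, Abelian.Ext.zero_comp]

end Groth.Agent.KodVLib
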