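import Groth.Agent.KodVLib.Main
import Groth.Agent.SeesawVB.Frames

/-!
# Injectivity of the Frobenius pullback on first cohomology of a locally free module

For a normal integral scheme over an algebraically closed field of characteristic `p` and a finite locally
free module `E`, a section of the cokernel of `E ⟶ F_*F^*E` gives, through differentials of local
coefficients, a section of `F^*E ⊗ Ω`, which vanishes only if the section of the cokernel does.
-/

set_option autoImplicit false
set_option backward.isDefEq.respectTransparency false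
set_option linter.style.haveILetI false
set_option linter.unusedSectionVars false
set_option maxHeartbeats 1600000

universe u

open CategoryTheory CategoryTheory.Limits AlgebraicGeometry TopologicalSpace Opposite
open Groth.Agent.PullbackMod Groth.Agent.DCohLib Groth.Agent.ExtSeq Groth.Agent.KVb Groth.Agent.DegDevLib
open scoped TensorProduct

noncomputable section

namespace Groth.Agent.KodVLib

section Pairing

variable {X : Scheme.{u}} (P M : X.Modules) {V : X.Opens} {n : ℕ}

/-- Pairing of a tuple of sections with coefficients in a module. -/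
def pairSum (ε : Fin n → Γ(P, V)) (z : Fin n → Γ(M, V)) : Γ(ten P M, V) :=
  ∑ i, pairS P M (ε i) (z i)

theorem rs_pairSum {W : X.Opens} (h : W ≤ V) (ε : Fin n → Γ(P, V)) (z : Fin n → Γ(M, V)) :
    rs (ten P M) h (pairSum P M ε z) = pairSum P M (fun i => rs P h (ε i)) (fun i => rs M h (z i)) := by
  show ((ten P M).presheaf.map (homOfLE h).op).hom (∑ i, pairS P M (ε i) (z i)) = _
  rw [map_sum]
  exact Finset.sum_congr rfl fun i _ => res_pairS h (ε i) (z i)

theorem pairS_sum_right' {U : X.Opens} (m : Γ(P, U)) (t : Fin n → Γ(M, U)) :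
    pairS P M m (∑ j, t j) = ∑ j, pairS P M m (t j) :=
  map_sum (AddMonoidHom.mk' (fun v => pairS P M m v) fun v w => pairS_add_right m v w) t _

theorem pairS_sum_left' {U : X.Opens} (m : Fin n → Γ(P, U)) (t : Γ(M, U)) :
    pairS P M (∑ j, m j) t = ∑ j, pairS P M (m j) t :=
  map_sum (AddMonoidHom.mk' (fun v => pairS P M v t) fun v w => pairS_add_left v w t) m _

variable {P M}

/-- The coefficients against a frame are determined by the pairing. -/
theorem pairSum_eq_zero {ε : Fin n → Γ(P, V)} (hε : IsFrame (E := P) V ε) {z : Fin n → Γ(M, V)}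
    (hz : pairSum P M ε z = 0) (j : Fin n) : z j = 0 := by
  classical
  refine TopCat.Presheaf.section_ext (⟨M.presheaf, M.isSheaf⟩ : TopCat.Sheaf Ab.{u} X.carrier) V _ _
    fun y hy => ?_
  let R := X.presheaf.stalk y
  let b : Module.Basis (Fin n) R (P.presheaf.stalk y) :=
    Module.Basis.ofEquivFun (LinearEquiv.ofBijective _ (hε y hy)).symm
  have hb : ∀ i, P.presheaf.germ V y hy (ε i) = b i := fun i => by
    simp only [b, Module.Basis.coe_ofEquivFun, LinearEquiv.symm_symm, LinearEquiv.ofBijective_apply]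
    rw [Fintype.linearCombination_apply, Finset.sum_eq_single i]
    · rw [Pi.single_eq_same, one_smul]
    · intro j _ hj
      rw [Pi.single_eq_of_ne hj, zero_smul]
    · exact fun h => absurd (Finset.mem_univ i) h
  let T : P.presheaf.stalk y ⊗[R] M.presheaf.stalk y →ₗ[R] M.presheaf.stalk y :=
    (TensorProduct.lid R _).toLinearMap ∘ₗ LinearMap.rTensor _ (b.coord j)
  have h0 : (stalkTensor y P M) (∑ i, b i ⊗ₜ[R] M.presheaf.germ V y hy (z i)) = 0 := by
    rw [map_sum]
    have h := congrArg ((ten P M).presheaf.germ V y hy) hz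
    unfold pairSum at h
    rw [map_sum, map_zero] at h
    refine Eq.trans (Finset.sum_congr rfl fun i _ => ?_) h
    rw [germ_pairS, hb]
  have h1 : (∑ i, b i ⊗ₜ[R] M.presheaf.germ V y hy (z i)) = 0 :=
    (stalkTensor y P M).injective (h0.trans (map_zero _).symm)
  have h2 := congrArg T h1
  rw [map_sum, map_zero, Finset.sum_eq_single j] at h2
  · simp only [T, LinearMap.comp_apply, LinearMap.rTensor_tmul, LinearEquiv.coe_coe, TensorProduct.lid_tmul,
      Module.Basis.coord_apply, Module.Basis.repr_self, Finsupp.single_eq_same, one_smul] at h2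
    exact h2.trans (map_zero (M.presheaf.germ V y hy).hom).symm
  · intro i _ hi
    simp only [T, LinearMap.comp_apply, LinearMap.rTensor_tmul, LinearEquiv.coe_coe, TensorProduct.lid_tmul,
      Module.Basis.coord_apply, Module.Basis.repr_self, Finsupp.single_eq_of_ne (Ne.symm hi), zero_smul]
  · exact fun h => absurd (Finset.mem_univ j) h

end Pairing

variable (k : Type u) [Field k] [IsAlgClosed k] (p : ℕ) [hp : Fact p.Prime] [CharP k p]
  {X : Scheme.{u}} (f : X ⟶ Spec (CommRingCat.of k)) [QuasiSeparated f] [IsIntegral X] [FrobSch.IsCharP X p]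
  (E : X.Modules) (hE : FlatMod.IsFinLocFree E)

/-- The inverse image along the Frobenius. -/
abbrev fP : X.Modules := (Scheme.Modules.pullback (FrobSch.frob X p)).obj E

/-- The unit on sections. -/
abbrev eta (V : X.Opens) : Γ(E, V) →+ Γ(fP p E, V) :=
  pullMap (FrobSch.frob X p) E (le_refl V : V ≤ FrobSch.frob X p ⁻¹ᵁ V)

theorem eta_smul (V : X.Opens) (a : Γ(X, V)) (e : Γ(E, V)) :
    eta p E V (a • e) = a ^ p • eta p E V e := by
  rw [eta, pullMap_smul]
  congr 1
  show (X.presheaf.map (homOfLE _).op).hom ((FrobSch.frob X p).app V a) = a ^ p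
  rw [FrobSch.frob_app]
  exact ConcreteCategory.congr_hom (X.presheaf.map_id _) (a ^ p)

theorem eta_sum {n : ℕ} (V : X.Opens) (c : Fin n → Γ(X, V)) (e : Fin n → Γ(E, V)) :
    eta p E V (∑ i, c i • e i) = ∑ i, c i ^ p • eta p E V (e i) := by
  rw [map_sum]
  exact Finset.sum_congr rfl fun i _ => eta_smul p E V (c i) (e i)

theorem rs_eta {V W : X.Opens} (h : W ≤ V) (e : Γ(E, V)) :
    rs (fP p E) h (eta p E V e) = eta p E W (rs E h e) :=
  pullMap_res (FrobSch.frob X p) E _ h h _ e

/-- The unit as a map of abelian sheaves. -/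
def unitAb : Coh.toAb E ⟶ Coh.toAb ((Scheme.Modules.pushforward (FrobSch.frob X p)).obj (fP p E)) :=
  (SheafOfModules.toSheaf X.ringCatSheaf).map
    ((Scheme.Modules.pullbackPushforwardAdjunction (FrobSch.frob X p)).unit.app E)

theorem unitAb_app (V : X.Opens) (e : Γ(E, V)) :
    ((unitAb p E).hom.app (op V) e : Γ(fP p E, V)) = eta p E V e :=
  (ConcreteCategory.congr_hom ((fP p E).presheaf.map_id (op V))
    ((((Scheme.Modules.pullbackPushforwardAdjunction (FrobSch.frob X p)).unit.app E).app V) e)).symm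

include hE in
theorem exists_frame_le (U : X.Opens) {x : X} (hx : x ∈ U) :
    ∃ (V : X.Opens) (n : ℕ) (e : Fin n → Γ(E, V)), x ∈ V ∧ IsAffineOpen V ∧ V ≤ U ∧
      IsFrame (E := E) V e ∧ IsFrame (E := fP p E) V (fun i => eta p E V (e i)) := by
  haveI := (isQCoh_and_isFP_of_isFinLocFree E hE).1
  obtain ⟨D, n, s, hxD, hs⟩ := SeesawVB.exists_frame_at hE x
  obtain ⟨_, ⟨V, hV, rfl⟩, hxV, hVW⟩ := X.isBasis_affineOpens.exists_subset_of_mem_open
    (show x ∈ ((U ⊓ D : X.Opens) : Set X) from ⟨hx, hxD⟩) (U ⊓ D).2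
  have hVD : V ≤ D := fun y hy => (hVW hy).2
  refine ⟨V, n, fun i => rs E hVD (s i), hxV, hV, fun y hy => (hVW hy).1, hs.res hVD, ?_⟩
  exact SeesawVB.isFrame_pullMap (FrobSch.frob X p) (hs.res hVD) _

/-- The cokernel sequence of the unit. -/
def seqV : ShortComplex (TopCat.Sheaf Ab.{u} X.carrier) :=
  ShortComplex.mk (unitAb p E) (cokernel.π (unitAb p E)) (cokernel.condition _)

include hE in
theorem mono_unitAb : Mono (unitAb p E) := by
  haveI : ∀ U, Mono ((unitAb p E).hom.app U) := fun U => by
    rw [AddCommGrpCat.mono_iff_injective]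
    refine (injective_iff_map_eq_zero ((unitAb p E).hom.app U).hom).2 fun σ hσ => ?_
    have hσ' : eta p E U.unop σ = 0 := (unitAb_app p E U.unop σ).symm.trans hσ
    refine FrobSplitLib.eq_of_local (M := E) (U := U.unop) σ 0 fun x hx => ?_
    obtain ⟨V, n, e, hxV, -, hV, he, hε⟩ := exists_frame_le p E hE U.unop hx
    refine ⟨V, hV, hxV, ?_⟩
    obtain ⟨a, ha⟩ := he.bijective.2 (rs E hV σ)
    rw [Fintype.linearCombination_apply] at ha
    have h2 : (fun i => a i ^ p) = 0 := hε.bijective.1 (by
      rw [Fintype.linearCombination_apply, map_zero, ← eta_sum, ha, ← rs_eta, hσ']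
      exact map_zero ((fP p E).presheaf.map (homOfLE hV).op).hom)
    have h3 : ∀ i, a i = 0 := fun i => eq_zero_of_pow_eq_zero (congrFun h2 i)
    show rs E hV σ = rs E hV 0
    rw [← ha]
    simp only [h3, zero_smul, Finset.sum_const_zero]
    exact (map_zero (E.presheaf.map (homOfLE hV).op).hom).symm
  haveI : Mono (unitAb p E).hom := NatTrans.mono_of_mono_app _
  exact Sheaf.Hom.mono_of_presheaf_mono _ _ _

include hE in
theorem seqV_shortExact : (seqV p E).ShortExact :=
  haveI : Mono (seqV p E).f := mono_unitAb p E hE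
  haveI : Epi (seqV p E).g := inferInstanceAs (Epi (cokernel.π _))
  { exact := ShortComplex.exact_cokernel _ }

/-- The differential of the coefficients. -/
abbrev nablaV {V : X.Opens} {n : ℕ} (e : Fin n → Γ(E, V)) (b : Fin n → Γ(X, V)) :
    Γ(ten (fP p E) (Omega.sheaf f), V) :=
  pairSum (fP p E) (Omega.sheaf f) (fun i => eta p E V (e i)) (fun i => OmegaSh.dSect f V (b i))

theorem rs_nablaV {V W : X.Opens} (h : W ≤ V) {n : ℕ} (e : Fin n → Γ(E, V)) (b : Fin n → Γ(X, V)) :
    rs (ten (fP p E) (Omega.sheaf f)) h (nablaV k p f E e b) =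
      nablaV k p f E (fun i => rs E h (e i)) (fun i => X.presheaf.map (homOfLE h).op (b i)) := by
  rw [nablaV, rs_pairSum]
  refine congrArg₂ (pairSum (fP p E) (Omega.sheaf f)) (funext fun i => rs_eta p E h (e i)) (funext fun i => ?_)
  exact (OmegaSh.dSect_map f h (b i)).symm

/-- Change of frame. -/
theorem nablaV_change {V : X.Opens} {n m : ℕ} (e : Fin n → Γ(E, V)) (a : Fin m → Fin n → Γ(X, V))
    (c : Fin n → Γ(X, V)) (b : Fin m → Γ(X, V)) :
    nablaV k p f E e (fun i => c i ^ p + ∑ l, b l * a l i ^ p) =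
      nablaV k p f E (fun l => ∑ i, a l i • e i) b := by
  have h1 : ∀ i, OmegaSh.dSect f V (c i ^ p + ∑ l, b l * a l i ^ p) =
      ∑ l, a l i ^ p • OmegaSh.dSect f V (b l) := fun i => by
    rw [OmegaSh.dSect_add, dSect_pow k p f, zero_add]
    refine (map_sum (AddMonoidHom.mk' (OmegaSh.dSect f V) (OmegaSh.dSect_add f V)) _ _).trans
      (Finset.sum_congr rfl fun l _ => ?_)
    show OmegaSh.dSect f V (b l * a l i ^ p) = _
    rw [dSect_mul, dSect_pow k p f, smul_zero, zero_add]
  simp only [nablaV, pairSum, h1, eta_sum]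
  simp only [pairS_sum_right', pairS_sum_left', pairS_smul_left, pairS_smul_right]
  rw [Finset.sum_comm]

variable (hX : Pi1.IsNormalScheme X)

include hX hE in
/-- The global sections of the cokernel of the unit vanish. -/
theorem sectionV_eq_zero (h0 : Subsingleton Γ(ten (fP p E) (Omega.sheaf f), ⊤))
    (s : (seqV p E).X₃.obj.obj (op ⊤)) : s = 0 := by
  classical
  let S := seqV p E
  let P := fP p E
  let N := ten P (Omega.sheaf f)
  haveI hloc : Sheaf.IsLocallySurjective S.g :=
    (Sheaf.isLocallySurjective_iff_epi' AddCommGrpCat.{u} S.g).mpr (seqV_shortExact p E hE).epi_g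
  have hcov : ∀ x : X, ∃ (V : X.Opens) (n : ℕ) (e : Fin n → Γ(E, V)) (b : Fin n → Γ(X, V)),
      x ∈ V ∧ IsAffineOpen V ∧ IsFrame (E := E) V e ∧ IsFrame (E := P) V (fun i => eta p E V (e i)) ∧
      S.g.hom.app (op V) (∑ i, b i • eta p E V (e i) : Γ(P, V)) =
        S.X₃.obj.map (homOfLE (le_top : V ≤ ⊤)).op s := by
    intro x
    obtain ⟨W, i, ⟨t, ht⟩, hxW⟩ := Presheaf.imageSieve_mem
      (Opens.grothendieckTopology X.carrier) S.g.hom s x trivial
    obtain ⟨V, n, e, hxV, hV, hVW, he, hε⟩ := exists_frame_le p E hE W hxW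
    obtain ⟨b, hb⟩ := hε.bijective.2 (rs P hVW (show Γ(P, W) from t))
    rw [Fintype.linearCombination_apply] at hb
    refine ⟨V, n, e, b, hxV, hV, he, hε, ?_⟩
    rw [hb]
    have h1 := ConcreteCategory.congr_hom (S.g.hom.naturality (homOfLE hVW).op) t
    refine h1.trans ((congrArg _ ht).trans ?_)
    show S.X₃.obj.map _ (S.X₃.obj.map _ s) = _
    rw [← ConcreteCategory.comp_apply, ← Functor.map_comp]
    rfl
  choose V n e b hxV hV he hε hb using hcov
  have hcompat : ∀ i j : X, rs N (inf_le_left : V i ⊓ V j ≤ V i) (nablaV k p f E (e i) (b i)) =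
      rs N (inf_le_right : V i ⊓ V j ≤ V j) (nablaV k p f E (e j) (b j)) := by
    intro i j
    let Z : X.Opens := V i ⊓ V j
    have hi : Z ≤ V i := inf_le_left
    have hj : Z ≤ V j := inf_le_right
    let ei : Fin (n i) → Γ(E, Z) := fun m => rs E hi (e i m)
    have hei : IsFrame (E := E) Z ei := (he i).res hi
    choose a ha using fun l => hei.bijective.2 (rs E hj (e j l))
    simp only [Fintype.linearCombination_apply] at ha
    have hS : ∀ (l : X) (hl : Z ≤ V l), S.g.hom.app (op Z)
        (∑ m, X.presheaf.map (homOfLE hl).op (b l m) • eta p E Z (rs E hl (e l m)) : Γ(P, Z)) =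
          S.X₃.obj.map (homOfLE (le_top : Z ≤ ⊤)).op s := fun l hl => by
      have hr : rs P hl (∑ m, b l m • eta p E (V l) (e l m) : Γ(P, V l)) =
          ∑ m, X.presheaf.map (homOfLE hl).op (b l m) • eta p E Z (rs E hl (e l m)) := by
        show ((P.presheaf.map (homOfLE hl).op).hom (∑ m, b l m • eta p E (V l) (e l m))) = _
        rw [map_sum]
        refine Finset.sum_congr rfl fun m _ => ?_
        show rs P hl (b l m • eta p E (V l) (e l m)) = _
        rw [rs_smul, rs_eta]
      rw [← hr]
      have h1 := ConcreteCategory.congr_hom (S.g.hom.naturality (homOfLE hl).op)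
        (∑ m, b l m • eta p E (V l) (e l m) : Γ(P, V l))
      refine h1.trans ((congrArg _ (hb l)).trans ?_)
      show S.X₃.obj.map _ (S.X₃.obj.map _ s) = _
      rw [← ConcreteCategory.comp_apply, ← Functor.map_comp]
      rfl
    haveI : Mono S.f := mono_unitAb p E hE
    obtain ⟨σ, hσ⟩ := SiteCmpLib.sections_exact (seqV_shortExact p E hE).exact Z
      ((∑ m, X.presheaf.map (homOfLE hi).op (b i m) • eta p E Z (rs E hi (e i m)) -
        ∑ m, X.presheaf.map (homOfLE hj).op (b j m) • eta p E Z (rs E hj (e j m)) : Γ(P, Z)))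
      ((map_sub (S.g.hom.app (op Z)).hom _ _).trans ((congrArg₂ (· - ·) (hS i hi) (hS j hj)).trans (sub_self _)))
    obtain ⟨c, hc⟩ := hei.bijective.2 (show Γ(E, Z) from σ)
    rw [Fintype.linearCombination_apply] at hc
    have hσ' : eta p E Z (show Γ(E, Z) from σ) =
        ∑ m, X.presheaf.map (homOfLE hi).op (b i m) • eta p E Z (rs E hi (e i m)) -
        ∑ m, X.presheaf.map (homOfLE hj).op (b j m) • eta p E Z (rs E hj (e j m)) :=
      (unitAb_app p E Z σ).symm.trans hσ
    have hcoef : (fun m => X.presheaf.map (homOfLE hi).op (b i m)) =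
        fun m => c m ^ p + ∑ l, X.presheaf.map (homOfLE hj).op (b j l) * a l m ^ p := by
      refine ((hε i).res hi).bijective.1 ?_
      have hrs : ∀ m, (P.presheaf.map (homOfLE hi).op) (eta p E (V i) (e i m)) = eta p E Z (ei m) :=
        fun m => rs_eta p E hi (e i m)
      simp only [Fintype.linearCombination_apply, hrs, add_smul, Finset.sum_add_distrib, Finset.sum_smul,
        ← smul_smul]
      rw [← sub_eq_iff_eq_add, Finset.sum_comm, ← eta_sum, hc, hσ']
      exact congrArg₂ (· - ·) rfl (Finset.sum_congr rfl fun l _ =>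
        (Finset.smul_sum).symm.trans (congrArg (X.presheaf.map (homOfLE hj).op (b j l) • ·)
          ((eta_sum p E Z (a l) ei).symm.trans (congrArg _ (ha l)))))
    rw [rs_nablaV, rs_nablaV]
    rw [hcoef, nablaV_change]
    refine congrArg (nablaV k p f E · _) (funext fun l => ?_)
    exact ha l
  obtain ⟨w, hw, -⟩ := TopCat.Sheaf.existsUnique_gluing' (⟨N.presheaf, N.isSheaf⟩ : TopCat.Sheaf Ab X)
    V ⊤ (fun i => homOfLE le_top) (fun x _ => Opens.mem_iSup.2 ⟨x, hxV x⟩) (fun i => nablaV k p f E (e i) (b i))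
    (fun i j => hcompat i j)
  have hzero : ∀ i, S.X₃.obj.map (homOfLE (le_top : V i ≤ ⊤)).op s = 0 := fun i => by
    haveI : Nonempty ↥(V i) := ⟨⟨i, hxV i⟩⟩
    have h1 : nablaV k p f E (e i) (b i) = 0 := by
      rw [← hw i, Subsingleton.elim (α := Γ(N, ⊤)) w 0]
      exact map_zero (N.presheaf.map (homOfLE le_top).op).hom
    choose a ha using fun m => exists_pow_eq k p f hX (hV i) (b i m) (pairSum_eq_zero (hε i) h1 m)
    rw [← hb i]
    simp only [← ha]
    rw [← eta_sum, ← unitAb_app p E (V i)]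
    exact ConcreteCategory.congr_hom (congr($(S.zero).hom.app (op (V i)))) (∑ m, a m • e i m : Γ(E, V i))
  refine TopCat.Sheaf.eq_of_locally_eq' S.X₃ V ⊤ (fun i => homOfLE le_top)
    (fun x _ => Opens.mem_iSup.2 ⟨x, hxV x⟩) s 0 fun i => ?_
  exact (hzero i).trans (map_zero _).symm

include hX hE in
/-- The unit is injective on first cohomology. -/
theorem unit_H1_injective (h0 : Subsingleton (Coh.HH X (ten (fP p E) (Omega.sheaf f)) 0)) :
    Function.Injective (Sheaf.H.map (unitAb p E) 1) := by
  haveI : Subsingleton Γ(ten (fP p E) (Omega.sheaf f), ⊤) :=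
    (Sheaf.H.equiv₀ (Coh.toAb (ten (fP p E) (Omega.sheaf f))) isTerminalTop).symm.toEquiv.injective.subsingleton
  refine (injective_iff_map_eq_zero _).2 fun x hx => ?_
  obtain ⟨y, hy⟩ := Abelian.Ext.covariant_sequence_exact₁ _ (seqV_shortExact p E hE) x hx (zero_add 1)
  have hy0 : y = 0 := (Sheaf.H.equiv₀ (seqV p E).X₃ isTerminalTop).injective
    ((sectionV_eq_zero k p f E hE hX inferInstance _).trans (map_zero _).symm)
  rw [← hy, hy0, Abelian.Ext.zero_comp]

end Groth.Agent.KodVLib
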